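import Mathlib.AlgebraicGeometry.Morphisms.UniversallyOpen
import Mathlib.AlgebraicGeometry.Morphisms.FinitePresentation
import Mathlib.AlgebraicGeometry.PullbackCarrier
import Mathlib.CategoryTheory.Monoidal.Cartesian.Over
import Mathlib.AlgebraicGeometry.Morphisms.Flat
import Mathlib.AlgebraicGeometry.Noetherian
import Groth.Agent.Lib.Desc.Quot

/-!
Products over a field along a birational surjection: dominance of graphs.
-/

universe u

open CategoryTheory CategoryTheory.Limits AlgebraicGeometry MonoidalCategory

set_option backward.isDefEq.respectTransparency false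

namespace Groth.Agent.OverProd19

theorem isPullback_whiskerRight {S : Scheme.{u}} {X Y : Over S} (q : X ⟶ Y) (Z : Over S) :
    IsPullback (CartesianMonoidalCategory.fst X Z) (q ▷ Z) q (CartesianMonoidalCategory.fst Y Z) := by
  refine IsPullback.of_isLimit' ⟨(CartesianMonoidalCategory.whiskerRight_fst q Z).symm⟩
    (PullbackCone.IsLimit.mk _ (fun s => CartesianMonoidalCategory.lift s.fst (s.snd ≫ CartesianMonoidalCategory.snd Y Z))
      (fun s => CartesianMonoidalCategory.lift_fst _ _) (fun s => ?_) (fun s m h1 h2 => ?_))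
  · refine CartesianMonoidalCategory.hom_ext _ _ ?_ ?_
    · rw [Category.assoc, CartesianMonoidalCategory.whiskerRight_fst, CartesianMonoidalCategory.lift_fst_assoc]
      exact s.condition
    · rw [Category.assoc, CartesianMonoidalCategory.whiskerRight_snd, CartesianMonoidalCategory.lift_snd]
  · refine CartesianMonoidalCategory.hom_ext _ _ (by rw [h1, CartesianMonoidalCategory.lift_fst]) ?_
    rw [CartesianMonoidalCategory.lift_snd, ← h2, Category.assoc, CartesianMonoidalCategory.whiskerRight_snd]

theorem isPullback_whiskerLeft {S : Scheme.{u}} {X Y : Over S} (q : X ⟶ Y) (Z : Over S) :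
    IsPullback (CartesianMonoidalCategory.snd Z X) (Z ◁ q) q (CartesianMonoidalCategory.snd Z Y) := by
  refine IsPullback.of_isLimit' ⟨(CartesianMonoidalCategory.whiskerLeft_snd Z q).symm⟩
    (PullbackCone.IsLimit.mk _ (fun s => CartesianMonoidalCategory.lift (s.snd ≫ CartesianMonoidalCategory.fst Z Y) s.fst)
      (fun s => CartesianMonoidalCategory.lift_snd _ _) (fun s => ?_) (fun s m h1 h2 => ?_))
  · refine CartesianMonoidalCategory.hom_ext _ _ ?_ ?_
    · rw [Category.assoc, CartesianMonoidalCategory.whiskerLeft_fst, CartesianMonoidalCategory.lift_fst]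
    · rw [Category.assoc, CartesianMonoidalCategory.whiskerLeft_snd, CartesianMonoidalCategory.lift_snd_assoc]
      exact s.condition
  · refine CartesianMonoidalCategory.hom_ext _ _ ?_ (by rw [h1, CartesianMonoidalCategory.lift_snd])
    rw [CartesianMonoidalCategory.lift_fst, ← h2, Category.assoc, CartesianMonoidalCategory.whiskerLeft_fst]

theorem range_of_isPullback_over {S : Scheme.{u}} {P X Y Z : Over S} {p₁ : P ⟶ X} {p₂ : P ⟶ Y} {f : X ⟶ Z}
    {g : Y ⟶ Z} (h : IsPullback p₁ p₂ f g) : Set.range p₂.left.base = g.left.base ⁻¹' Set.range f.left.base := by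
  have hl : IsPullback p₁.left p₂.left f.left g.left := h.map (Over.forget S)
  have e : hl.isoPullback.hom ≫ pullback.snd f.left g.left = p₂.left := hl.isoPullback_hom_snd
  have e2 : Function.Surjective hl.isoPullback.hom.base := hl.isoPullback.hom.homeomorph.surjective
  rw [← e, Scheme.Hom.comp_base, TopCat.coe_comp, e2.range_comp, Scheme.Pullback.range_snd]

theorem isDominant_graph_iff {k : Type u} [Field k] {G X T : Over (Spec (CommRingCat.of k))}
    [LocallyOfFiniteType G.hom] [LocallyOfFiniteType X.hom] [LocallyOfFiniteType T.hom]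
    [IrreducibleSpace ↥X.left] [IrreducibleSpace ↥T.left] (n : T ⟶ X) [Surjective n.left] (V : X.left.Opens)
    (hV : (V : Set X.left).Nonempty) [IsIso (n.left ∣_ V)] (ga : G ⊗ X ⟶ X) (gb : G ⊗ T ⟶ T)
    (hb : (G ◁ n) ≫ ga = gb ≫ n) :
    IsDominant (CartesianMonoidalCategory.lift (CartesianMonoidalCategory.snd G X) ga).left ↔
      IsDominant (CartesianMonoidalCategory.lift (CartesianMonoidalCategory.snd G T) gb).left := by
  set A := CartesianMonoidalCategory.lift (CartesianMonoidalCategory.snd G X) ga with hA
  set B := CartesianMonoidalCategory.lift (CartesianMonoidalCategory.snd G T) gb with hB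
  set p := (n ▷ T) ≫ (X ◁ n) with hp
  have hp1 : p ≫ CartesianMonoidalCategory.fst X X = CartesianMonoidalCategory.fst T T ≫ n := by
    rw [hp, Category.assoc, CartesianMonoidalCategory.whiskerLeft_fst, CartesianMonoidalCategory.whiskerRight_fst]
  have hp2 : p ≫ CartesianMonoidalCategory.snd X X = CartesianMonoidalCategory.snd T T ≫ n := by
    rw [hp, Category.assoc, CartesianMonoidalCategory.whiskerLeft_snd,
      CartesianMonoidalCategory.whiskerRight_snd_assoc]
  have hcomm : B ≫ p = (G ◁ n) ≫ A := by
    refine CartesianMonoidalCategory.hom_ext _ _ ?_ ?_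
    · rw [Category.assoc, hp1, hB, CartesianMonoidalCategory.lift_fst_assoc, Category.assoc, hA,
        CartesianMonoidalCategory.lift_fst, CartesianMonoidalCategory.whiskerLeft_snd]
    · rw [Category.assoc, hp2, hB, CartesianMonoidalCategory.lift_snd_assoc, Category.assoc, hA,
        CartesianMonoidalCategory.lift_snd, hb]
  have hsu : ∀ (Z : Over (Spec (CommRingCat.of k))), Function.Surjective (Z ◁ n).left.base ∧
      Function.Surjective (n ▷ Z).left.base := fun Z => by
    constructor
    · rw [← Set.range_eq_univ, range_of_isPullback_over (isPullback_whiskerLeft n Z),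
        n.left.surjective.range_eq, Set.preimage_univ]
    · rw [← Set.range_eq_univ, range_of_isPullback_over (isPullback_whiskerRight n Z),
        n.left.surjective.range_eq, Set.preimage_univ]
  have hpsurj : Function.Surjective p.left.base := by
    rw [hp, Over.comp_left, Scheme.Hom.comp_base, TopCat.coe_comp]
    exact (hsu X).1.comp (hsu T).2
  have hrA : Set.range A.left.base = p.left.base '' Set.range B.left.base := by
    have e : B.left ≫ p.left = (G ◁ n).left ≫ A.left := by rw [← Over.comp_left, hcomm, Over.comp_left]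
    rw [← Set.range_comp, ← TopCat.coe_comp, ← Scheme.Hom.comp_base, e, Scheme.Hom.comp_base, TopCat.coe_comp,
      (hsu G).1.range_comp]
  constructor
  · intro hdA
    let TV : Over (Spec (CommRingCat.of k)) := Over.mk ((n.left ⁻¹ᵁ V).ι ≫ T.hom)
    let j : TV ⟶ T := Over.homMk (n.left ⁻¹ᵁ V).ι rfl
    have hj' : (j ≫ n).left = (n.left ∣_ V) ≫ V.ι := (morphismRestrict_ι _ _).symm
    haveI : IsOpenImmersion (j ≫ n).left := by rw [hj']; infer_instance
    have hi1 : ∀ (Y Y' Z : Over (Spec (CommRingCat.of k))) (f : Y ⟶ Y'), IsOpenImmersion f.left →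
        IsOpenImmersion (f ▷ Z).left ∧ IsOpenImmersion (Z ◁ f).left := fun Y Y' Z f hf =>
      ⟨MorphismProperty.of_isPullback (P := @IsOpenImmersion) ((isPullback_whiskerRight f Z).map (Over.forget _)) hf,
        MorphismProperty.of_isPullback (P := @IsOpenImmersion) ((isPullback_whiskerLeft f Z).map (Over.forget _)) hf⟩
    have hjo : IsOpenImmersion j.left := inferInstanceAs (IsOpenImmersion (n.left ⁻¹ᵁ V).ι)
    let J := (j ▷ TV) ≫ (T ◁ j)
    let J' := ((j ≫ n) ▷ TV) ≫ (X ◁ (j ≫ n))
    haveI := (hi1 _ _ TV j hjo).1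
    haveI := (hi1 _ _ T j hjo).2
    haveI := (hi1 _ _ TV (j ≫ n) ‹_›).1
    haveI := (hi1 _ _ X (j ≫ n) ‹_›).2
    haveI : IsOpenImmersion J.left := by rw [Over.comp_left]; infer_instance
    haveI : IsOpenImmersion J'.left := by rw [Over.comp_left]; infer_instance
    have hJp : J ≫ p = J' := by
      refine CartesianMonoidalCategory.hom_ext _ _ ?_ ?_
      · rw [Category.assoc, hp1]
        simp [J, J']
      · rw [Category.assoc, hp2]
        simp [J, J']
    have hmem : ∀ z : (T ⊗ T).left, (CartesianMonoidalCategory.fst T T).left z ∈ Set.range j.left.base →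
        (CartesianMonoidalCategory.snd T T).left z ∈ Set.range j.left.base → z ∈ Set.range J.left.base := fun z h1 h2 => by
      obtain ⟨v, rfl⟩ : z ∈ Set.range (T ◁ j).left.base := by
        rw [range_of_isPullback_over (isPullback_whiskerLeft j T)]; exact h2
      obtain ⟨w, rfl⟩ : v ∈ Set.range (j ▷ TV).left.base := by
        rw [range_of_isPullback_over (isPullback_whiskerRight j TV)]
        rw [← Scheme.Hom.comp_apply, ← Over.comp_left, CartesianMonoidalCategory.whiskerLeft_fst] at h1
        exact h1
      exact ⟨w, by rw [Over.comp_left, Scheme.Hom.comp_apply]⟩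
    haveI : Flat T.hom := inferInstance
    haveI : LocallyOfFinitePresentation T.hom := inferInstance
    haveI : Flat TV.hom := inferInstance
    haveI : LocallyOfFiniteType TV.hom := inferInstanceAs (LocallyOfFiniteType ((n.left ⁻¹ᵁ V).ι ≫ T.hom))
    haveI : LocallyOfFinitePresentation TV.hom := inferInstance
    have hjd : Dense (Set.range j.left.base) := by
      refine (j.left.isOpenEmbedding.isOpen_range).dense ?_
      obtain ⟨x, hx⟩ := hV
      obtain ⟨t, rfl⟩ := n.left.surjective x
      exact ⟨t, (n.left ⁻¹ᵁ V).range_ι.ge hx⟩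
    have hJd : DenseRange J.left.base := by
      have d1 : DenseRange (T ◁ j).left.base := by
        rw [DenseRange, range_of_isPullback_over (isPullback_whiskerLeft j T)]
        exact hjd.preimage (pullback.snd T.hom T.hom).isOpenMap
      have d2 : DenseRange (j ▷ TV).left.base := by
        rw [DenseRange, range_of_isPullback_over (isPullback_whiskerRight j TV)]
        exact hjd.preimage (pullback.fst T.hom TV.hom).isOpenMap
      rw [Over.comp_left, Scheme.Hom.comp_base, TopCat.coe_comp]
      exact d1.comp d2 (T ◁ j).left.continuous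
    refine ⟨?_⟩
    rw [DenseRange, dense_iff_inter_open]
    intro O hO hne
    obtain ⟨w₀, hw₀⟩ := hJd.exists_mem_open hO hne
    have hopen : IsOpen (J'.left.base '' (J.left.base ⁻¹' O)) :=
      J'.left.isOpenEmbedding.isOpenMap _ (hO.preimage J.left.continuous)
    obtain ⟨y, ⟨w, hw, hyw⟩, hy⟩ := (dense_iff_inter_open.1 hdA.denseRange) _ hopen ⟨_, w₀, hw₀, rfl⟩
    rw [hrA] at hy
    obtain ⟨z, hzB, hz⟩ := hy
    have hin : ∀ (q : T ⊗ T ⟶ T) (q' : X ⊗ X ⟶ X) (q'' : TV ⊗ TV ⟶ TV), p ≫ q' = q ≫ n → J' ≫ q' = q'' ≫ (j ≫ n) →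
        q.left z ∈ Set.range j.left.base := fun q q' q'' e e' => by
      have h1 : n.left (q.left z) = n.left (j.left (q''.left w)) := by
        rw [← Scheme.Hom.comp_apply, ← Over.comp_left, ← e, Over.comp_left, Scheme.Hom.comp_apply, hz, ← hyw,
          ← Scheme.Hom.comp_apply, ← Over.comp_left, e']
        rfl
      refine (n.left ⁻¹ᵁ V).range_ι.ge ?_
      show n.left (q.left z) ∈ V
      rw [h1]
      exact ((n.left ⁻¹ᵁ V).range_ι.le ⟨_, rfl⟩ : j.left (q''.left w) ∈ (n.left ⁻¹ᵁ V))
    obtain ⟨w', rfl⟩ := hmem z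
      (hin _ _ (CartesianMonoidalCategory.fst TV TV) hp1 (by simp [J']))
      (hin _ _ (CartesianMonoidalCategory.snd TV TV) hp2 (by simp [J']))
    refine ⟨_, ?_, hzB⟩
    have : w' = w := by
      refine J'.left.isOpenEmbedding.injective ?_
      rw [hyw, ← hz, ← hJp]
      rfl
    subst this
    exact hw
  · intro hdB
    refine ⟨?_⟩
    rw [DenseRange, hrA]
    exact DenseRange.dense_image (Function.Surjective.denseRange hpsurj) p.left.continuous hdB.denseRange

end Groth.Agent.OverProd19
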